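import Groth.Agent.Lib.WittDesc2.Mat
import Mathlib.LinearAlgebra.Matrix.InvariantBasisNumber
import Mathlib.LinearAlgebra.Matrix.GeneralLinearGroup.Defs
import Mathlib.RingTheory.LocalRing.Module

/-!
Pseudo-torsors under `GL_n` on the points of a faithfully flat algebra have points Zariski locally.
-/

set_option autoImplicit false
set_option backward.isDefEq.respectTransparency.types false

universe u

open TensorProduct Matrix
open Groth.Agent.TorsTriv25 (q0 q1 pair01 pair12 pair02 diagHom p0 p1 p2 pair01_q0 pair01_q1 pair02_q0 pair02_q1)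
open Groth.Agent.WittDesc2 (map_mul' map_algebraMap')

noncomputable section

namespace Groth.Agent.GLTors15

/-- The range of an idempotent matrix is free near any prime. -/
theorem exists_split {A : Type u} [CommRing A] (p : Ideal A) [p.IsPrime] {k : ℕ}
    (e : Matrix (Fin k) (Fin k) A) (he : e * e = e) :
    ∃ f ∉ p, ∃ (r : ℕ) (a : Matrix (Fin k) (Fin r) (Localization.Away f))
      (b : Matrix (Fin r) (Fin k) (Localization.Away f)),
      a * b = e.map (algebraMap A _) ∧ b * a = 1 := by
  classical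
  let L := Localization.AtPrime p
  let eL : Matrix (Fin k) (Fin k) L := e.map (algebraMap A L)
  have heL : eL * eL = eL := by rw [← map_mul', he]
  let P : Submodule L (Fin k → L) := LinearMap.range eL.mulVecLin
  haveI : Module.Projective L P := Module.Projective.of_split P.subtype eL.mulVecLin.rangeRestrict
    (LinearMap.ext fun x => Subtype.ext (by
      show eL.mulVec x.1 = x.1
      obtain ⟨y, hy⟩ := LinearMap.mem_range.1 x.2
      rw [← hy, Matrix.mulVecLin_apply, Matrix.mulVec_mulVec, heL]))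
  haveI : Module.Free L P := Module.free_of_flat_of_isLocalRing
  let r := Module.finrank L P
  let bP : Module.Basis (Fin r) L P := Module.finBasis L P
  let a₁ : Matrix (Fin k) (Fin r) L := LinearMap.toMatrix' (P.subtype.comp bP.equivFun.symm.toLinearMap)
  let b₁ : Matrix (Fin r) (Fin k) L := LinearMap.toMatrix' (bP.equivFun.toLinearMap.comp eL.mulVecLin.rangeRestrict)
  have hab : a₁ * b₁ = eL := by
    rw [← LinearMap.toMatrix'_comp]
    apply Matrix.toLin'.injective
    rw [Matrix.toLin'_toMatrix']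
    refine LinearMap.ext fun x => ?_
    show ((bP.equivFun.symm (bP.equivFun (eL.mulVecLin.rangeRestrict x)) : P) : Fin k → L) = _
    rw [LinearEquiv.symm_apply_apply]
    rfl
  have hba : b₁ * a₁ = 1 := by
    rw [← LinearMap.toMatrix'_comp]
    apply Matrix.toLin'.injective
    rw [Matrix.toLin'_toMatrix', Matrix.toLin'_one]
    refine LinearMap.ext fun x => ?_
    show bP.equivFun (eL.mulVecLin.rangeRestrict (bP.equivFun.symm x : P).1) = x
    have : eL.mulVecLin.rangeRestrict (bP.equivFun.symm x : P).1 = bP.equivFun.symm x := by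
      obtain ⟨y, hy⟩ := (bP.equivFun.symm x).2
      exact Subtype.ext (by
        show eL.mulVec _ = _
        rw [← hy, Matrix.mulVecLin_apply, Matrix.mulVec_mulVec, heL])
    rw [this, LinearEquiv.apply_symm_apply]
  obtain ⟨⟨s, hs⟩, hsi⟩ := IsLocalization.exist_integer_multiples p.primeCompl
    (Finset.univ : Finset (Fin k × Fin r ⊕ Fin r × Fin k))
    (Sum.elim (fun x => a₁ x.1 x.2) (fun x => b₁ x.1 x.2))
  choose c hc using fun x => hsi x (Finset.mem_univ x)
  let a₀ : Matrix (Fin k) (Fin r) A := fun i j => c (Sum.inl (i, j))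
  let b₀ : Matrix (Fin r) (Fin k) A := fun i j => c (Sum.inr (i, j))
  have ha₀ : a₀.map (algebraMap A L) = s • a₁ := Matrix.ext fun i j => hc (Sum.inl (i, j))
  have hb₀ : b₀.map (algebraMap A L) = s • b₁ := Matrix.ext fun i j => hc (Sum.inr (i, j))
  have h1 : ∀ i j, ∃ u : p.primeCompl, (u : A) * (a₀ * b₀) i j = u * ((s * s) • e) i j := fun i j =>
    (IsLocalization.eq_iff_exists p.primeCompl L).1 (by
      have : (a₀ * b₀).map (algebraMap A L) = ((s * s) • e).map (algebraMap A L) := by
        rw [map_mul', ha₀, hb₀, Matrix.smul_mul, Matrix.mul_smul, smul_smul, hab]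
        ext i j
        simp only [Matrix.smul_apply, Matrix.map_apply, eL, smul_eq_mul, map_mul]
        rw [Algebra.smul_def, map_mul]
      exact congrFun (congrFun this i) j)
  have h2 : ∀ i j, ∃ u : p.primeCompl, (u : A) * (b₀ * a₀) i j = u * ((s * s) • (1 : Matrix (Fin r) (Fin r) A)) i j :=
    fun i j => (IsLocalization.eq_iff_exists p.primeCompl L).1 (by
      have : (b₀ * a₀).map (algebraMap A L) = ((s * s) • (1 : Matrix (Fin r) (Fin r) A)).map (algebraMap A L) := by
        rw [map_mul', ha₀, hb₀, Matrix.smul_mul, Matrix.mul_smul, smul_smul, hba]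
        ext i j
        rw [Matrix.smul_apply, Matrix.map_apply, Matrix.smul_apply]
        rcases eq_or_ne i j with rfl | h
        · simp [Algebra.smul_def]
        · simp [Matrix.one_apply_ne h]
      exact congrFun (congrFun this i) j)
  choose u hu using h1
  choose v hv using h2
  let w : p.primeCompl := (∏ i, ∏ j, u i j) * ∏ i, ∏ j, v i j
  have hw1 : ∀ i j, (u i j : A) ∣ w := fun i j => by
    show p.primeCompl.subtype (u i j) ∣ p.primeCompl.subtype w
    refine map_dvd p.primeCompl.subtype ?_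
    exact Dvd.dvd.mul_right ((Finset.dvd_prod_of_mem _ (Finset.mem_univ j)).trans
      (Finset.dvd_prod_of_mem (fun i => ∏ j, u i j) (Finset.mem_univ i))) _
  have hw2 : ∀ i j, (v i j : A) ∣ w := fun i j => by
    show p.primeCompl.subtype (v i j) ∣ p.primeCompl.subtype w
    refine map_dvd p.primeCompl.subtype ?_
    exact Dvd.dvd.mul_left ((Finset.dvd_prod_of_mem _ (Finset.mem_univ j)).trans
      (Finset.dvd_prod_of_mem (fun i => ∏ j, v i j) (Finset.mem_univ i))) _
  refine ⟨s * w.1, fun h => ((‹p.IsPrime›.mem_or_mem h).elim hs w.2), r, ?_⟩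
  let F := Localization.Away (s * w.1)
  have hF : IsUnit (algebraMap A F (s * w.1)) := IsLocalization.Away.algebraMap_isUnit _
  rw [map_mul, IsUnit.mul_iff] at hF
  obtain ⟨t, ht⟩ := hF.1.exists_left_inv
  have htt : t * t * algebraMap A F (s * s) = 1 := by
    rw [map_mul, mul_mul_mul_comm, ht, one_mul]
  have key : ∀ (x y z : A), z ∣ w → z * x = z * y → algebraMap A F x = algebraMap A F y := fun x y z hz e => by
    obtain ⟨d, hd⟩ := hz
    apply hF.2.mul_left_cancel
    rw [← map_mul, ← map_mul]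
    exact congrArg _ (by linear_combination d * e + (x - y) * hd)
  refine ⟨t • a₀.map (algebraMap A F), t • b₀.map (algebraMap A F), ?_, ?_⟩
  · rw [Matrix.smul_mul, Matrix.mul_smul, smul_smul, ← map_mul']
    ext i j
    rw [Matrix.smul_apply, Matrix.map_apply, key _ _ _ (hw1 i j) (hu i j), smul_eq_mul, Matrix.smul_apply,
      smul_eq_mul, map_mul, ← mul_assoc, htt, one_mul, Matrix.map_apply]
  · rw [Matrix.smul_mul, Matrix.mul_smul, smul_smul, ← map_mul']
    ext i j
    rw [Matrix.smul_apply, Matrix.map_apply, key _ _ _ (hw2 i j) (hv i j), smul_eq_mul, Matrix.smul_apply,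
      smul_eq_mul, map_mul, ← mul_assoc, htt, one_mul]
    simp [Matrix.one_apply, apply_ite (algebraMap A F)]

variable {A B : Type u} [CommRing A] [CommRing B] [Algebra A B]

/-- Change of coefficients of invertible matrices. -/
abbrev gmap (n : ℕ) {C D : Type u} [CommRing C] [CommRing D] [Algebra A C] [Algebra A D] (h : C →ₐ[A] D) :
    GL (Fin n) C →* GL (Fin n) D :=
  Units.map h.toRingHom.mapMatrix.toMonoidHom

theorem gmap_val (n : ℕ) {C D : Type u} [CommRing C] [CommRing D] [Algebra A C] [Algebra A D] (h : C →ₐ[A] D)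
    (g : GL (Fin n) C) : (gmap n h g : Matrix (Fin n) (Fin n) D) = (g : Matrix (Fin n) (Fin n) C).map h := rfl

/-- A simply transitive action of invertible matrices on points. -/
structure MatPts (n : ℕ) (A B : Type u) [CommRing A] [CommRing B] [Algebra A B] where
  sm : ∀ (C : Type u) [CommRing C] [Algebra A C], GL (Fin n) C → (B →ₐ[A] C) → (B →ₐ[A] C)
  map_sm : ∀ (C D : Type u) [CommRing C] [Algebra A C] [CommRing D] [Algebra A D] (h : C →ₐ[A] D)
    (g : GL (Fin n) C) (φ : B →ₐ[A] C), h.comp (sm C g φ) = sm D (gmap n h g) (h.comp φ)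
  sm_mul : ∀ (C : Type u) [CommRing C] [Algebra A C] (g g' : GL (Fin n) C) (φ : B →ₐ[A] C),
    sm C g (sm C g' φ) = sm C (g * g') φ
  existsUnique_sm : ∀ (C : Type u) [CommRing C] [Algebra A C] (φ ψ : B →ₐ[A] C), ∃! g : GL (Fin n) C, sm C g ψ = φ

namespace MatPts

variable {n : ℕ} (P : MatPts n A B)

theorem cancel {C : Type u} [CommRing C] [Algebra A C] {g g' : GL (Fin n) C} {ψ : B →ₐ[A] C}
    (h : P.sm C g ψ = P.sm C g' ψ) : g = g' :=
  (P.existsUnique_sm C _ ψ).unique rfl h.symm

/-- The twisted point is equalised. -/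
theorem exists_equalized {C D E : Type u} [CommRing C] [CommRing D] [CommRing E] [Algebra A C] [Algebra A D]
    [Algebra A E] [Nontrivial D] {k r : ℕ} (ι₀ : C →ₐ[A] D) (φ : B →ₐ[A] D) (j0 j1 : D →ₐ[A] E)
    (hj : ∀ c, j0 (ι₀ c) = j1 (ι₀ c)) (θ : GL (Fin n) (B ⊗[A] B))
    (hθ : P.sm (B ⊗[A] B) θ q1 = q0) {e : Matrix (Fin k) (Fin k) A} {u : Matrix (Fin k) (Fin n) B}
    {v : Matrix (Fin n) (Fin k) B} (huv : u * v = e.map (algebraMap A B)) (hvu : v * u = 1)
    (hve : v * e.map (algebraMap A B) = v)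
    (hG : ((θ⁻¹ : GL (Fin n) (B ⊗[A] B)) : Matrix (Fin n) (Fin n) (B ⊗[A] B)) = v.map q1 * u.map q0)
    {a : Matrix (Fin k) (Fin r) C} {b : Matrix (Fin r) (Fin k) C}
    (hab : a * b = e.map (algebraMap A C)) (hba : b * a = 1) :
    ∃ σ : B →ₐ[A] D, j0.comp σ = j1.comp σ := by
  classical
  let V : Matrix (Fin n) (Fin r) D := v.map φ * a.map ι₀
  let U : Matrix (Fin r) (Fin n) D := b.map ι₀ * u.map φ
  have heD : (e.map (algebraMap A B)).map φ = (e.map (algebraMap A C)).map ι₀ := by
    rw [map_algebraMap', map_algebraMap']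
  have hVU : V * U = 1 := by
    rw [Matrix.mul_assoc, ← Matrix.mul_assoc (a.map ι₀), ← map_mul', hab, ← heD, ← Matrix.mul_assoc, ← map_mul',
      hve, ← map_mul', hvu]
    exact Matrix.map_one φ (map_zero φ) (map_one φ)
  have hUV : U * V = 1 := by
    rw [Matrix.mul_assoc, ← Matrix.mul_assoc (u.map φ), ← map_mul', huv, heD, ← map_mul', ← hab, ← map_mul',
      show b * (a * b * a) = 1 by rw [Matrix.mul_assoc, hba, Matrix.mul_one, hba]]
    exact Matrix.map_one ι₀ (map_zero ι₀) (map_one ι₀)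
  obtain rfl : n = r := by
    simpa using Matrix.square_of_invertible V U hVU hUV
  let g : GL (Fin n) D := ⟨U, V, hUV, hVU⟩
  refine ⟨P.sm D g φ, ?_⟩
  let l : B ⊗[A] B →ₐ[A] E :=
    Algebra.TensorProduct.lift (j0.comp φ) (j1.comp φ) fun x y => mul_comm ((j0.comp φ) x) ((j1.comp φ) y)
  have e0 : l.comp q0 = j0.comp φ := AlgHom.ext fun x => by simp [l]
  have e1 : l.comp q1 = j1.comp φ := AlgHom.ext fun x => by simp [l]
  have hl : P.sm E (gmap n l θ) (j1.comp φ) = j0.comp φ := by
    rw [← e1, ← P.map_sm, hθ, e0]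
  rw [P.map_sm, P.map_sm, ← hl, P.sm_mul]
  refine congrArg (fun x => P.sm E x (j1.comp φ)) ?_
  -- `l(θ⁻¹) = V₁ U₀`
  have hlG : ((θ⁻¹ : GL (Fin n) (B ⊗[A] B)) : Matrix (Fin n) (Fin n) (B ⊗[A] B)).map l = V.map j1 * U.map j0 := by
    have hc : (a.map ι₀).map j1 * (b.map ι₀).map j0 = ((e.map (algebraMap A B)).map φ).map j0 := by
      rw [heD, ← hab, map_mul', map_mul']
      congr 1
      ext i j
      exact (hj _).symm
    rw [map_mul' j1, map_mul' j0, Matrix.mul_assoc, ← Matrix.mul_assoc ((a.map ι₀).map j1), hc, ← map_mul',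
      ← map_mul', ← huv, Matrix.mul_assoc, hvu, Matrix.mul_one, hG, map_mul']
    congr 1
    · ext i j; exact AlgHom.congr_fun e1 _
    · ext i j; exact AlgHom.congr_fun e0 _
  have h4 : gmap n l θ⁻¹ = (gmap n j1 g)⁻¹ * gmap n j0 g := Units.ext hlG
  rw [map_inv, inv_eq_iff_eq_inv, _root_.mul_inv_rev, inv_inv] at h4
  rw [h4, mul_inv_cancel_left]

include P in
theorem exists_point [Module.FaithfullyFlat A B] (p : Ideal A) [p.IsPrime] :
    ∃ f ∉ p, Nonempty (B →ₐ[A] Localization.Away f) := by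
  classical
  obtain ⟨θ, hθ, -⟩ := P.existsUnique_sm (B ⊗[A] B) q0 q1
  have hδ : ∀ {C : Type u} [CommRing C] [Algebra A C] (h : B ⊗[A] B →ₐ[A] C),
      P.sm C (gmap n h θ) (h.comp q1) = h.comp q0 := fun h => by
    rw [← P.map_sm, hθ]
  have h2 : gmap n (pair01 (A := A) (B := B)) θ * gmap n (pair12 (A := A) (B := B)) θ = gmap n pair02 θ := by
    have e01 := hδ (pair01 (A := A) (B := B))
    have e02 := hδ (pair02 (A := A) (B := B))
    have e12 := hδ (pair12 (A := A) (B := B))
    rw [pair01_q0, pair01_q1] at e01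
    rw [pair02_q0, pair02_q1] at e02
    change P.sm _ (gmap n pair12 θ) p2 = p1 at e12
    rw [← e12, P.sm_mul, ← e02] at e01
    exact P.cancel e01
  have h1 : gmap n (diagHom (A := A) (B := B)) θ = 1 := by
    have hd := hδ (diagHom (A := A) (B := B))
    have e0 : (diagHom (A := A) (B := B)).comp q0 = AlgHom.id A B := AlgHom.ext fun x => by simp
    have e1 : (diagHom (A := A) (B := B)).comp q1 = AlgHom.id A B := AlgHom.ext fun x => by simp
    rw [e0, e1] at hd
    have e : gmap n (diagHom (A := A) (B := B)) θ * gmap n diagHom θ = gmap n diagHom θ := by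
      refine P.cancel (ψ := AlgHom.id A B) ?_
      rw [← P.sm_mul, hd, hd]
    exact mul_eq_left.1 e
  let G : Matrix (Fin n) (Fin n) (B ⊗[A] B) := ↑θ⁻¹
  have hG1 : G.map (diagHom (A := A) (B := B)) = 1 := by
    show (gmap n diagHom θ⁻¹ : Matrix (Fin n) (Fin n) B) = 1
    rw [map_inv, h1, inv_one]; rfl
  have hG2 : G.map pair12 * G.map pair01 = G.map pair02 := by
    have h3 : gmap n (pair12 (A := A) (B := B)) θ⁻¹ * gmap n pair01 θ⁻¹ = gmap n pair02 θ⁻¹ := by
      rw [map_inv, map_inv, map_inv, ← h2, _root_.mul_inv_rev]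
    exact congrArg Units.val h3
  obtain ⟨k, e, u, v, he, huv, hvu, hve, hG⟩ := WittDesc2.matDescent 1 G hG1 hG2
  obtain ⟨f, hf, r, a, b, hab, hba⟩ := exists_split p e he
  refine ⟨f, hf, ?_⟩
  let C := Localization.Away f
  let D := C ⊗[A] B
  haveI : Nontrivial C := by
    rw [← not_subsingleton_iff_nontrivial]
    intro hC
    obtain ⟨m, hm⟩ : ∃ m, f ^ m = 0 := by
      obtain ⟨⟨_, m, rfl⟩, hm⟩ := (IsLocalization.eq_iff_exists (Submonoid.powers f) C).1
        (Subsingleton.elim (algebraMap A C 1) (algebraMap A C 0))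
      exact ⟨m, by simpa using hm⟩
    exact hf (‹p.IsPrime›.mem_of_pow_mem m (hm ▸ p.zero_mem))
  haveI : Nontrivial D := (FaithfulSMul.algebraMap_injective C D).nontrivial
  obtain ⟨σ, hσ⟩ := P.exists_equalized (C := C) (D := D) (E := D ⊗[C] D) (IsScalarTower.toAlgHom A C D)
    Algebra.TensorProduct.includeRight
    ((Algebra.TensorProduct.includeLeft : D →ₐ[C] D ⊗[C] D).restrictScalars A)
    ((Algebra.TensorProduct.includeRight : D →ₐ[C] D ⊗[C] D).restrictScalars A)
    (fun c => ((Algebra.TensorProduct.includeLeft : D →ₐ[C] D ⊗[C] D).commutes c).trans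
      ((Algebra.TensorProduct.includeRight : D →ₐ[C] D ⊗[C] D).commutes c).symm) θ hθ huv hvu hve hG hab hba
  exact TorsTriv25.exists_point_of_eq (C := C) σ hσ

end MatPts

end Groth.Agent.GLTors15
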