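import Groth.Agent.Lib.GLTors15.Ring
import Groth.Agent.Lib.TorsTriv25.Scheme
import Groth.Agent.Lib.GITQuot.Torsor
import Groth.Agent.Lib.AffRep19.GL

/-!
Torsors under `GL_n` are trivial locally for the Zariski topology.
-/

set_option autoImplicit false
set_option linter.style.haveILetI false
set_option backward.isDefEq.respectTransparency.types false

universe u

open CategoryTheory CategoryTheory.Limits MonoidalCategory CartesianMonoidalCategory MonObj AlgebraicGeometry
open Groth.Agent.TorsTriv25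

noncomputable section

namespace Groth.Agent.GLTors15

variable {k : Type u} [Field k] {n : ℕ} {X Y : Over (Spec (CommRingCat.of k))} {φ : X ⟶ Y}

/-- A scheme over `Y` as a scheme over the field. -/
abbrev toK (T : Over Y.left) : Over (Spec (CommRingCat.of k)) := (Over.map Y.hom).obj T

/-- A point over `Y` as a point over the field. -/
def toX {T : Over Y.left} (x : T ⟶ Over.mk φ.left) : toK T ⟶ X :=
  Over.homMk x.left (by
    show x.left ≫ X.hom = T.hom ≫ Y.hom
    rw [← Over.w φ, ← Category.assoc]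
    exact congrArg (· ≫ Y.hom) (Over.w x))

/-- The structure morphism as a point. -/
def base (T : Over Y.left) : toK T ⟶ Y := Over.homMk T.hom rfl

theorem toX_φ {T : Over Y.left} (x : T ⟶ Over.mk φ.left) : toX x ≫ φ = base T :=
  Over.OverMorphism.ext (Over.w x)

theorem toX_comp {T T' : Over Y.left} (t : T' ⟶ T) (x : T ⟶ Over.mk φ.left) :
    toX (t ≫ x) = (Over.map Y.hom).map t ≫ toX x := Over.OverMorphism.ext rfl

theorem toX_injective {T : Over Y.left} : Function.Injective (toX (φ := φ) (T := T)) := fun x y h =>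
  Over.OverMorphism.ext (congrArg (fun z => z.left) h :)

theorem exists_toX {T : Over Y.left} (y : toK T ⟶ X) (h : y ≫ φ = base T) :
    ∃ x : T ⟶ Over.mk φ.left, toX x = y :=
  ⟨Over.homMk y.left (congrArg (fun z => z.left) h), Over.OverMorphism.ext rfl⟩

theorem exists_matPts (a : AlgGrp.Action (FrB.GLn n (Spec (CommRingCat.of k))) X)
    (hcart : IsPullback a.act (snd (FrB.GLn n (Spec (CommRingCat.of k))) X) φ φ)
    {U : Y.left.Opens} (hU : IsAffineOpen U) (hW : IsAffineOpen ((Over.mk φ.left).hom ⁻¹ᵁ U))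
    [Algebra Γ(Y.left, U) Γ((Over.mk φ.left).left, (Over.mk φ.left).hom ⁻¹ᵁ U)]
    (halg : algebraMap Γ(Y.left, U) Γ((Over.mk φ.left).left, (Over.mk φ.left).hom ⁻¹ᵁ U) =
      ((Over.mk φ.left).hom.appLE U ((Over.mk φ.left).hom ⁻¹ᵁ U) le_rfl).hom) :
    Nonempty (MatPts n Γ(Y.left, U) Γ((Over.mk φ.left).left, (Over.mk φ.left).hom ⁻¹ᵁ U)) := by
  classical
  let M := AffRep19.matsFrB (Spec (CommRingCat.of k)) n
  have hg : ∀ (C : Type u) [CommRing C] [Algebra Γ(Y.left, U) C] (g : GL (Fin n) C),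
      ∃ z : toK (tC hU C) ⟶ FrB.GLn n (Spec (CommRingCat.of k)),
        M.mat z = (g : Matrix (Fin n) (Fin n) C).map (glob hU C) := fun C _ _ g =>
    M.surj (T := toK (tC hU C)) ((Units.isUnit g).map (glob hU C).mapMatrix)
  choose gp hgp using hg
  have hact : ∀ {T : Over (Spec (CommRingCat.of k))} (z : T ⟶ FrB.GLn n (Spec (CommRingCat.of k))) (x : T ⟶ X),
      (lift z x ≫ a.act) ≫ φ = x ≫ φ := fun z x => by
    rw [Category.assoc, hcart.w, lift_snd_assoc]
  have hsm : ∀ (C : Type u) [CommRing C] [Algebra Γ(Y.left, U) C] (g : GL (Fin n) C)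
      (ψ : Γ((Over.mk φ.left).left, (Over.mk φ.left).hom ⁻¹ᵁ U) →ₐ[Γ(Y.left, U)] C),
      ∃ ψ' : Γ((Over.mk φ.left).left, (Over.mk φ.left).hom ⁻¹ᵁ U) →ₐ[Γ(Y.left, U)] C,
        toX (pt hU hW rfl halg ψ') = lift (gp C g) (toX (pt hU hW rfl halg ψ)) ≫ a.act := fun C _ _ g ψ => by
    obtain ⟨x, hx⟩ := exists_toX (φ := φ) (lift (gp C g) (toX (pt hU hW rfl halg ψ)) ≫ a.act)
      (by rw [hact, toX_φ])
    obtain ⟨ψ', rfl⟩ := pt_surjective hU hW rfl halg x
    exact ⟨ψ', hx⟩
  choose sm hsm using hsm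
  have hinj : ∀ (C : Type u) [CommRing C] [Algebra Γ(Y.left, U) C],
      Function.Injective (fun ψ => toX (pt hU hW rfl halg (C := C) ψ)) := fun C _ _ =>
    toX_injective.comp (pt_injective hU hW rfl halg)
  refine ⟨⟨sm, ?_, ?_, ?_⟩⟩
  · intro C D _ _ _ _ h g ψ
    apply hinj D
    show toX _ = toX _
    rw [← pt_comp, toX_comp, hsm, hsm, ← pt_comp, toX_comp, comp_lift_assoc]
    congr 2
    apply M.inj
    rw [M.nat, hgp, hgp, gmap_val, Matrix.map_map, Matrix.map_map]
    congr 1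
    funext c
    exact appTop_glob hU h c
  · intro C _ _ g g' ψ
    apply hinj C
    show toX _ = toX _
    rw [hsm, hsm, hsm, show gp C (g * g') = gp C g * gp C g' from M.inj (by
      rw [M.mul, hgp, hgp, hgp, Units.val_mul]
      exact Matrix.map_mul), AlgGrp.Action.lift_mul_act]
  · intro C _ _ ψ₁ ψ₂
    let y₁ := toX (pt hU hW rfl halg ψ₁)
    let y₂ := toX (pt hU hW rfl halg ψ₂)
    have hy : y₁ ≫ φ = y₂ ≫ φ := by rw [toX_φ, toX_φ]
    let l := hcart.lift y₁ y₂ hy
    let z : toK (tC hU C) ⟶ FrB.GLn n (Spec (CommRingCat.of k)) := l ≫ fst _ _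
    have hz : lift z y₂ ≫ a.act = y₁ := by
      have : lift z y₂ = l := CartesianMonoidalCategory.hom_ext _ _ (lift_fst _ _)
        ((lift_snd _ _).trans (hcart.lift_snd _ _ _).symm)
      rw [this]
      exact hcart.lift_fst _ _ _
    have huniq : ∀ z', lift z' y₂ ≫ a.act = y₁ → z' = z := fun z' e => by
      have : lift z' y₂ = lift z y₂ := hcart.hom_ext (by rw [e, hz]) (by simp)
      simpa using congrArg (· ≫ fst _ X) this
    let e := RingEquiv.ofBijective (glob hU C) (glob_bijective hU C)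
    let g : GL (Fin n) C := Units.map e.symm.toRingHom.mapMatrix.toMonoidHom (M.isUnit z).unit
    have hgz : gp C g = z := M.inj (by
      rw [hgp]
      ext i j
      exact e.apply_symm_apply _)
    refine ⟨g, ?_, fun g' hg' => ?_⟩
    · apply hinj C
      show toX _ = toX _
      rw [hsm, hgz]
      exact hz
    · have h1 : gp C g' = z := huniq _ (by rw [← hsm, hg'])
      have h2 := congrArg M.mat (h1.trans hgz.symm)
      rw [hgp, hgp] at h2
      exact Units.ext (Matrix.map_injective (glob_bijective hU C).1 h2)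

theorem isLocallyTrivialFor_zariski (a : AlgGrp.Action (FrB.GLn n (Spec (CommRingCat.of k))) X)
    (hcart : IsPullback a.act (snd (FrB.GLn n (Spec (CommRingCat.of k))) X) φ φ)
    (hloc : NonAbH1.IsLocallyTrivialFor Scheme.fpqcPrecoverage (Over.mk φ.left : Over Y.left)) :
    NonAbH1.IsLocallyTrivialFor Scheme.zariskiPrecoverage (Over.mk φ.left : Over Y.left) := by
  haveI : IsAffineHom (FrB.GLn n (Spec (CommRingCat.of k))).hom :=
    MorphismProperty.pullback_snd _ _ (inferInstanceAs (IsAffineHom (Spec.map _)))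
  haveI : IsAffine (FrB.GLn n (Spec (CommRingCat.of k))).left :=
    isAffine_of_isAffineHom (FrB.GLn n (Spec (CommRingCat.of k))).hom
  obtain ⟨haff, hflat, hsurj⟩ := GITQuot.isAffineHom_flat_surjective hcart hloc
  have key : ∀ s : Y.left, ∃ (T : Scheme.{u}) (g : T ⟶ Y.left), IsOpenImmersion g ∧ s ∈ Set.range g ∧
      NonAbH1.HasSectionOver (Over.mk φ.left) g := fun s => by
    obtain ⟨U, hU, hsU, -⟩ := exists_isAffineOpen_mem_and_subset (X := Y.left) (x := s) (U := ⊤) trivial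
    haveI : IsAffineHom (Over.mk φ.left).hom := haff
    have hW : IsAffineOpen ((Over.mk φ.left).hom ⁻¹ᵁ U) := hU.preimage _
    have hff : ((Over.mk φ.left).hom.appLE U ((Over.mk φ.left).hom ⁻¹ᵁ U) le_rfl).hom.FaithfullyFlat := by
      rw [RingHom.FaithfullyFlat.iff_flat_and_comap_surjective]
      refine ⟨HasRingHomProperty.appLE @Flat φ.left hflat ⟨U, hU⟩ ⟨_, hW⟩ le_rfl, fun p => ?_⟩
      obtain ⟨x, hx⟩ := hsurj.surj (hU.fromSpec p)
      have hxW : x ∈ φ.left ⁻¹ᵁ U := by
        show φ.left x ∈ (U : Set Y.left)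
        rw [hx, ← hU.range_fromSpec]; exact ⟨p, rfl⟩
      refine ⟨hW.primeIdealOf ⟨x, hxW⟩, hU.fromSpec.isOpenEmbedding.injective ?_⟩
      show (Spec.map (φ.left.appLE U (φ.left ⁻¹ᵁ U) le_rfl) ≫ hU.fromSpec) _ = _
      erw [hU.SpecMap_appLE_fromSpec φ.left hW le_rfl, Scheme.Hom.comp_apply]
      exact (congrArg φ.left (hW.fromSpec_primeIdealOf ⟨x, hxW⟩)).trans hx
    algebraize [((Over.mk φ.left).hom.appLE U ((Over.mk φ.left).hom ⁻¹ᵁ U) le_rfl).hom]
    haveI : Module.FaithfullyFlat Γ(Y.left, U) Γ((Over.mk φ.left).left, (Over.mk φ.left).hom ⁻¹ᵁ U) := hff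
    obtain ⟨P⟩ := exists_matPts a hcart hU hW rfl
    obtain ⟨c, hc, ⟨ψ⟩⟩ := P.exists_point (hU.primeIdealOf ⟨s, hsU⟩).asIdeal
    haveI : IsOpenImmersion (Spec.map (CommRingCat.ofHom (algebraMap Γ(Y.left, U) (Localization.Away c)))) :=
      IsOpenImmersion.of_isLocalization c
    refine ⟨_, Spec.map (CommRingCat.ofHom (algebraMap Γ(Y.left, U) (Localization.Away c))) ≫ hU.fromSpec,
      inferInstance, ?_, TorsTriv25.hasSectionOver_of_point hU hW rfl ψ⟩
    obtain ⟨z, hz⟩ : hU.primeIdealOf ⟨s, hsU⟩ ∈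
        Set.range (PrimeSpectrum.comap (algebraMap Γ(Y.left, U) (Localization.Away c))) := by
      rw [PrimeSpectrum.localization_away_comap_range _ c]; exact hc
    refine ⟨z, ?_⟩
    show hU.fromSpec (PrimeSpectrum.comap (algebraMap Γ(Y.left, U) (Localization.Away c)) z) = s
    rw [hz]
    exact hU.fromSpec_primeIdealOf ⟨s, hsU⟩
  choose T g hg hsg hsec using key
  refine ⟨Presieve.ofArrows T g, ?_, fun _ _ hR => ?_⟩
  · exact (Scheme.ofArrows_mem_precoverage_iff @IsOpenImmersion).2 ⟨fun x => ⟨x, hsg x⟩, hg⟩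
  · obtain ⟨i⟩ := hR
    exact hsec i

end Groth.Agent.GLTors15
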